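import Mathlib
import Groth.Agent.H23Ext.Semilocal
import Groth.Agent.H23LinSer.Basic

/-!
The value of a norm at a place, over an algebraically closed constant field.
-/

set_option autoImplicit false
set_option linter.unusedSectionVars false
set_option linter.style.haveILetI false

namespace Groth.Agent.H26Weil

open WithZero Groth.Agent.H23FunFld Groth.Agent.H23Ext

universe u3

variable {k K : Type*} {K' : Type u3} [Field k] [IsAlgClosed k] [Field K] [Field K'] [Algebra k K] [Algebra K K'] [Algebra k K']
  [IsScalarTower k K K'] [FiniteDimensional K K'] (hK : FunFld.IsFunctionField k K)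
  (P : FunFld.Place k K) [Algebra P.O K'] [IsScalarTower P.O K K'] [IsScalarTower k P.O K']

/-- Over an algebraically closed field the constants are automatically exact. -/
theorem isFunctionField_of_isFF {L : Type*} [Field L] [Algebra k L] (h : IsFF k L) :
    FunFld.IsFunctionField k L :=
  ⟨h, fun y hy => IntermediateField.mem_bot.1
    (by
      have hbot : IntermediateField.adjoin k ({y} : Set L) = ⊥ := by
        haveI := IntermediateField.adjoin.finiteDimensional hy.isIntegral
        exact IntermediateField.eq_bot_of_isAlgClosed_of_isAlgebraic _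
      exact hbot ▸ IntermediateField.mem_adjoin_simple_self k y)⟩

include hK

/-- A function with prescribed valuations at finitely many places. -/
theorem exists_val (S : Finset (FunFld.Place k K')) (D : FunFld.Place k K' → ℤ) (hS : S.Nonempty) :
    ∃ x : K', x ≠ 0 ∧ ∀ Q ∈ S, Q.1 x = exp (-D Q) := by
  choose p hp0 hp using fun Q : FunFld.Place k K' => exists_val_eq Q (-D Q)
  obtain ⟨x, hx⟩ := approximation S p (fun Q => -D Q - 1)
  have key : ∀ Q ∈ S, Q.1 x = exp (-D Q) := fun Q hQ => by
    rw [← add_sub_cancel (p Q) x, Q.1.map_add_eq_of_lt_left, hp]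
    rw [hp]
    exact (hx Q hQ).trans_lt (exp_lt_exp.2 (by omega))
  obtain ⟨Q, hQ⟩ := hS
  refine ⟨x, fun h => ?_, key⟩
  have := key Q hQ
  rw [h, map_zero] at this
  exact exp_ne_zero this.symm

/-- The residue of a norm is the product of the residues, weighted by ramification. -/
theorem norm_residue (S : Finset (FunFld.Place k K')) (hS : ∀ Q, Q ∈ S ↔ FunFld.IsOver Q P)
    {z : K'} (v : FunFld.Place k K' → k) (hv : ∀ Q ∈ S, Q.1 (z - algebraMap k K' (v Q)) < 1) :
    P.1 (Algebra.norm K z - algebraMap k K (∏ Q ∈ S, v Q ^ FunFld.ramIdx Q P)) < 1 := by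
  classical
  haveI := isNoetherian_placeO hK P
  haveI := finite_integralClosure (K' := K') hK P
  set R := integralClosure P.O K'
  haveI : Module.IsTorsionFree P.O R :=
    Module.isTorsionFree_iff_algebraMap_injective.2 (by
      intro u v huv
      have := congrArg (fun r : R => (r : K')) huv
      simp only [Subalgebra.coe_algebraMap, IsScalarTower.algebraMap_apply P.O K K'] at this
      exact Subtype.ext ((algebraMap K K').injective this))
  haveI : Module.Free P.O R := Module.free_of_finite_type_torsion_free'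
  let b := Module.Free.chooseBasis P.O R
  set ι := Module.Free.ChooseBasisIndex P.O R
  haveI : Fintype ι := inferInstance
  have hzR : z ∈ R := (mem_integralClosure_iff hK P).2 fun Q hQ => by
    rw [← sub_add_cancel z (algebraMap k K' (v Q))]
    exact (Q.1.map_add _ _).trans (max_le (hv Q ((hS Q).2 hQ)).le (Q.2.1 _))
  set w : R := ⟨z, hzR⟩
  have hK' : FunFld.IsFunctionField k K' := isFunctionField_of_isFF (H23Ext.isFF_extension hK.1)
  -- the residue map
  haveI := finiteDimensional_residueField hK P
  haveI hint' : Algebra.IsIntegral k (IsLocalRing.ResidueField P.O) :=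
    @Algebra.IsIntegral.of_finite k _ _ _ _ (finiteDimensional_residueField hK P)
  have hbij := IsAlgClosed.algebraMap_bijective_of_isIntegral (k := k) (K := IsLocalRing.ResidueField P.O)
  let e := RingEquiv.ofBijective (algebraMap k (IsLocalRing.ResidueField P.O)) hbij
  let ev : P.O →+* k := e.symm.toRingHom.comp (IsLocalRing.residue P.O)
  have hevC : ∀ a, ev (algebraMap k P.O a) = a := fun a => e.symm_apply_apply a
  have hev0 : ∀ r : P.O, ev r = 0 ↔ P.1 (r : K) < 1 := fun r => by
    change e.symm (IsLocalRing.residue P.O r) = 0 ↔ _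
    rw [map_eq_zero_iff _ e.symm.injective, IsLocalRing.residue_eq_zero_iff,
      ValuationSubring.valuation_lt_one_iff,
      ← P.1.isEquiv_valuation_valuationSubring.lt_one_iff_lt_one]
  -- a uniformizer
  obtain ⟨t, ht0, ht⟩ := exists_val_eq P (-1)
  set T : K' := algebraMap K K' t
  have hT0 : T ≠ 0 := by simpa [T] using ht0
  have hTord : ∀ Q ∈ S, Q.ord T = (FunFld.ramIdx Q P : ℤ) := by
    intro Q hQ
    obtain ⟨n, hn⟩ := (hS Q).1 hQ
    rw [IsOverWith.ord_eq hn, show P.ord t = 1 by simp [FunFld.Place.ord, ht], mul_one, ramIdx_eq hn]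
  have hsum : ∑ Q ∈ S, FunFld.ramIdx Q P = Module.finrank K K' := by
    have h := sum_ramIdx_mul_deg (K' := K') hK P S hS
    rw [Groth.Agent.H23LinSer.deg_eq_one hK P, mul_one] at h
    rw [← h]
    exact Finset.sum_congr rfl fun Q _ => by
      rw [Groth.Agent.H23LinSer.deg_eq_one hK' Q, mul_one]
  have hcard : Fintype.card ι ≤ Module.finrank K K' := by
    have hli : LinearIndependent K fun i => ((b i : R) : K') := by
      rw [← LinearIndependent.iff_fractionRing (R := P.O) (K := K)]
      exact b.linearIndependent.map' R.val.toLinearMap (LinearMap.ker_eq_bot.2 Subtype.val_injective)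
    exact hli.fintype_card_le_finrank
  obtain ⟨M, hM⟩ : ∃ M : Matrix ι ι k, M = (Algebra.leftMulMatrix b w).map ev := ⟨_, rfl⟩
  -- the eigenspaces are large
  have hbig : ∀ a : k, ∑ Q ∈ S with v Q = a, FunFld.ramIdx Q P ≤ M.charpoly.rootMultiplicity a := by
    intro a
    obtain ⟨x, hx0, hx⟩ := exists_val (K' := K') hK S (fun Q => if v Q = a then (FunFld.ramIdx Q P : ℤ) else 0)
      (by obtain ⟨Q, hQ⟩ := exists_above (K' := K') hK P; exact ⟨Q, (hS Q).2 hQ⟩)
    have hxord : ∀ Q ∈ S, Q.ord x = if v Q = a then (FunFld.ramIdx Q P : ℤ) else 0 := fun Q hQ => by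
      rw [FunFld.Place.ord, hx Q hQ, log_exp, neg_neg]
    have hxR : x ∈ R := (mem_integralClosure_iff hK P).2 fun Q hQ =>
      (val_le_one_iff Q hx0).2 (by rw [hxord Q ((hS Q).2 hQ)]; split <;> positivity)
    obtain ⟨V, _, _, f, hV, hf, hker, hdim⟩ := exists_orders_quotient hK P S hS hx0 hxR
    have hdimV : Module.finrank k V = ∑ Q ∈ S with v Q = a, FunFld.ramIdx Q P := by
      have h : (Module.finrank k V : ℤ) = ((∑ Q ∈ S with v Q = a, FunFld.ramIdx Q P : ℕ) : ℤ) := by
        rw [hdim, Finset.sum_filter, Nat.cast_sum]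
        refine Finset.sum_congr rfl fun Q hQ => ?_
        rw [hxord Q hQ, Groth.Agent.H23LinSer.deg_eq_one hK' Q]
        split <;> simp
      exact_mod_cast h
    let g : (ι → k) →ₗ[k] V := Fintype.linearCombination k (fun i => f (b i))
    have hTx : ∀ r : R, ∀ s : P.O, P.1 (s : K) < 1 → f (s • r) = 0 := by
      intro r s hs
      refine (hker _).2 ((mem_integralClosure_iff hK P).2 fun Q hQ => ?_)
      have hQS := (hS Q).2 hQ
      change Q.1 ((s • (r : K')) / x) ≤ 1
      rw [Algebra.smul_def, map_div₀, map_mul, IsScalarTower.algebraMap_apply P.O K K']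
      obtain ⟨n, hn⟩ := hQ
      have h1 : Q.1 (algebraMap K K' (algebraMap P.O K s)) ≤ Q.1 T := by
        rw [hn, hn, ht]
        exact pow_le_pow_left₀ zero_le (Groth.Agent.H23Diff.le_exp_neg_one' hs) n
      have h2 : Q.1 T ≤ Q.1 x := by
        rw [val_eq_exp Q hT0, val_eq_exp Q hx0, exp_le_exp, hTord Q hQS, hxord Q hQS]
        split <;> simp
      refine div_le_one_of_le₀ ((mul_le_mul' (h1.trans h2)
        ((mem_integralClosure_iff hK P).1 r.2 Q ⟨n, hn⟩)).trans_eq (mul_one _)) zero_le
    have hgev : ∀ r : R, g (fun i => ev (b.repr r i)) = f r := by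
      intro r
      conv_rhs => rw [← b.sum_repr r]
      rw [map_sum, Fintype.linearCombination_apply]
      refine Finset.sum_congr rfl fun i _ => ?_
      rw [← map_smul, ← sub_eq_zero, ← map_sub, ← IsScalarTower.algebraMap_smul P.O (ev (b.repr r i)) (b i),
        ← sub_smul]
      exact hTx _ _ ((hev0 _).1 (by rw [map_sub, hevC, sub_self]))
    have hgsurj : Function.Surjective g := fun y => by
      obtain ⟨r, rfl⟩ := hf y
      exact ⟨_, hgev r⟩
    obtain ⟨N, hN⟩ : ∃ N, N = S.sup (fun Q => FunFld.ramIdx Q P) := ⟨_, rfl⟩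
    have hkill : ∀ r : R, f ((w - algebraMap P.O R (algebraMap k P.O a)) ^ N * r) = 0 := by
      intro r
      refine (hker _).2 ((mem_integralClosure_iff hK P).2 fun Q hQ => ?_)
      have hQS := (hS Q).2 hQ
      change Q.1 (((z - algebraMap P.O K' (algebraMap k P.O a)) ^ N * (r : K')) / x) ≤ 1
      rw [← IsScalarTower.algebraMap_apply k P.O K', map_div₀, map_mul, map_pow]
      refine div_le_one_of_le₀ ((mul_le_mul' ?_ ((mem_integralClosure_iff hK P).1 r.2 Q hQ)).trans_eq (mul_one _)) zero_le
      rcases eq_or_ne (v Q) a with h | h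
      · rw [hx Q hQS, if_pos h, ← h]
        refine (pow_le_pow_left₀ zero_le (Groth.Agent.H23Diff.le_exp_neg_one' (hv Q hQS)) N).trans ?_
        rw [← exp_nsmul, exp_le_exp]
        simpa [hN] using Finset.le_sup (f := fun Q => FunFld.ramIdx Q P) hQS
      · rw [hx Q hQS, if_neg h, neg_zero, exp_zero]
        refine pow_le_one₀ zero_le ?_
        rw [← sub_add_sub_cancel z (algebraMap k K' (v Q)) (algebraMap k K' a), ← map_sub]
        exact (Q.1.map_add _ _).trans (max_le (hv Q hQS).le (Q.2.1 _))
    have hgA : ∀ c : ι → k, g (((M - a • 1) ^ N).mulVec c) = 0 := by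
      intro c
      set w' : R := (w - algebraMap P.O R (algebraMap k P.O a)) ^ N
      set r : R := ∑ i, algebraMap k P.O (c i) • b i
      have hA : (M - a • 1) ^ N = (Algebra.leftMulMatrix b w').map ev := by
        change _ = ev.mapMatrix (Algebra.leftMulMatrix b w')
        rw [map_pow, map_pow, map_sub, map_sub, AlgHom.commutes, hM]
        congr 1
        congr 1
        ext i j
        simp [Matrix.algebraMap_matrix_apply, Matrix.one_apply, apply_ite ev, hevC]
      have hc : (fun i => ev (b.repr r i)) = c := by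
        funext i
        rw [show r = ∑ i, algebraMap k P.O (c i) • b i from rfl, b.repr_sum_self, hevC]
      have e2 : ((M - a • 1) ^ N).mulVec c = fun i => ev (b.repr (w' * r) i) := by
        funext i
        rw [← Algebra.leftMulMatrix_mulVec_repr, hA, RingHom.map_mulVec]
        conv_lhs => rw [← hc]
        rfl
      rw [e2, hgev]
      exact hkill r
    have hle : LinearMap.range (Matrix.toLinAlgEquiv' ((M - a • 1) ^ N)) ≤ LinearMap.ker g := by
      rintro _ ⟨c, rfl⟩
      rw [LinearMap.mem_ker, Matrix.toLinAlgEquiv'_apply]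
      exact hgA c
    have h1 := Submodule.finrank_mono hle
    have h2 := LinearMap.finrank_range_add_finrank_ker g
    have h3 := LinearMap.finrank_range_add_finrank_ker (Matrix.toLinAlgEquiv' ((M - a • 1) ^ N))
    rw [LinearMap.range_eq_top.2 hgsurj, finrank_top] at h2
    have h4 : LinearMap.ker (Matrix.toLinAlgEquiv' ((M - a • 1) ^ N)) ≤
        Module.End.maxGenEigenspace (Matrix.toLinAlgEquiv' M) a := by
      intro c hc
      rw [Module.End.mem_maxGenEigenspace]
      refine ⟨N, ?_⟩
      rw [map_pow, map_sub, map_smul, map_one] at hc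
      exact hc
    have h5 := Submodule.finrank_mono h4
    rw [LinearMap.finrank_maxGenEigenspace_eq] at h5
    rw [← hdimV]
    have h6 : (Matrix.toLinAlgEquiv' M).charpoly = M.charpoly := Matrix.charpoly_toLin' M
    rw [h6] at h5
    omega
  -- comparison of roots
  obtain ⟨R0, hR0⟩ : ∃ R0 : Multiset k, R0 = ∑ Q ∈ S, Multiset.replicate (FunFld.ramIdx Q P) (v Q) := ⟨_, rfl⟩
  have hroots : M.charpoly.roots = R0 := by
    refine (Multiset.eq_of_le_of_card_le (Multiset.le_iff_count.2 fun a => ?_) ?_).symm
    · rw [Polynomial.count_roots, hR0, Multiset.count_sum']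
      refine le_trans (le_of_eq ?_) (hbig a)
      rw [Finset.sum_filter]
      exact Finset.sum_congr rfl fun Q _ => Multiset.count_replicate a (v Q) _
    · refine ((Polynomial.card_roots' _).trans (M.charpoly_natDegree_eq_dim.le.trans hcard)).trans ?_
      rw [hR0, Multiset.card_sum]
      simp [hsum]
  have hdet : ev (Algebra.norm P.O w) = ∏ Q ∈ S, v Q ^ FunFld.ramIdx Q P := by
    rw [Algebra.norm_eq_matrix_det b, RingHom.map_det, RingHom.mapMatrix_apply, ← hM,
      Matrix.det_eq_prod_roots_charpoly, hroots, hR0, Multiset.prod_sum]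
    simp
  have hnorm : Algebra.norm K z = ((Algebra.norm P.O w : P.O) : K) := by
    haveI : IsLocalization (Algebra.algebraMapSubmonoid R (nonZeroDivisors P.O)) K' :=
      IsIntegralClosure.isLocalization P.O K K' R
    exact Algebra.norm_localization P.O (Rₘ := K) (Sₘ := K') (nonZeroDivisors P.O) w
  rw [hnorm]
  have := (hev0 (Algebra.norm P.O w - algebraMap k P.O (∏ Q ∈ S, v Q ^ FunFld.ramIdx Q P))).1
    (by rw [map_sub, hevC, hdet, sub_self])
  exact this

end Groth.Agent.H26Weil
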